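import Groth.Agent.AlgGrp79.RosUnits

/-! Units on a product of connected schemes over an algebraically closed field. -/

set_option autoImplicit false
universe u

open CategoryTheory MonoidalCategory CartesianMonoidalCategory AlgebraicGeometry CategoryTheory.Limits
open Groth.Agent.AlgGrp79

namespace Groth.Agent.Units38

variable {k : Type u} [Field k]

/-- The image point of a rational point. -/
noncomputable abbrev pt {Z : Over (Spec (CommRingCat.of k))} (p : kPt k ⟶ Z) : Z.left :=
  p.left (IsLocalRing.closedPoint k)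

variable [IsAlgClosed k]

/-- A function on rational points which is constant on rational points of each irreducible closed subset of
each affine open is constant when the scheme is connected. -/
theorem const_of_affine {Z : Over (Spec (CommRingCat.of k))} [LocallyOfFiniteType Z.hom] [QuasiCompact Z.hom]
    [ConnectedSpace Z.left] {α : Type*} (F : (kPt k ⟶ Z) → α)
    (h : ∀ W : Z.left.Opens, IsAffineOpen W → ∀ z ∈ W, ∀ p p' : kPt k ⟶ Z, pt p ∈ W → pt p' ∈ W →
      z ⤳ pt p → z ⤳ pt p' → F p = F p') : ∀ p p', F p = F p' := by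
  classical
  have : JacobsonSpace Z.left := LocallyOfFiniteType.jacobsonSpace Z.hom
  have H : ∀ (z : Z.left) (p p' : kPt k ⟶ Z), z ⤳ pt p → z ⤳ pt p' → F p = F p' := by
    intro z p p' hp hp'
    obtain ⟨W, hW, hpW, -⟩ := exists_isAffineOpen_mem_and_subset (U := (⊤ : Z.left.Opens)) (x := pt p) trivial
    obtain ⟨W', hW', hpW', -⟩ := exists_isAffineOpen_mem_and_subset (U := (⊤ : Z.left.Opens)) (x := pt p') trivial
    have hzW := hp.mem_open W.isOpen hpW
    have hzW' := hp'.mem_open W'.isOpen hpW'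
    obtain ⟨c, ⟨hcl, hcW, hcW'⟩, hcc⟩ := nonempty_inter_closedPoints
      (Z := closure {z} ∩ ((W : Set Z.left) ∩ W')) ⟨z, subset_closure rfl, hzW, hzW'⟩
      (isClosed_closure.isLocallyClosed.inter (W.isOpen.inter W'.isOpen).isLocallyClosed)
    obtain ⟨p'', hp''⟩ := exists_kPt c hcc
    have hz'' : z ⤳ pt p'' := by rw [show pt p'' = c from hp'']; exact specializes_iff_mem_closure.2 hcl
    exact (h W hW z hzW p p'' hpW (by rw [show pt p'' = c from hp'']; exact hcW) hp hz'').trans
      (h W' hW' z hzW' p'' p' (by rw [show pt p'' = c from hp'']; exact hcW') hpW' hz'' hp')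
  have hex : ∀ z : Z.left, ∃ p : kPt k ⟶ Z, z ⤳ pt p := fun z => by
    obtain ⟨c, hcl, hcc⟩ := nonempty_inter_closedPoints (Z := closure {z}) ⟨z, subset_closure rfl⟩
      isClosed_closure.isLocallyClosed
    obtain ⟨p, hp⟩ := exists_kPt c hcc
    exact ⟨p, by rw [show pt p = c from hp]; exact specializes_iff_mem_closure.2 hcl⟩
  choose sel hsel using hex
  let G : Z.left → α := fun z => F (sel z)
  have hG : ∀ {z z' : Z.left}, z ⤳ z' → G z = G z' := fun {z z'} hzz => H z _ _ (hsel z) (hzz.trans (hsel z'))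
  have hFG : ∀ p, F p = G (pt p) := fun p => H (pt p) _ _ (specializes_refl _) (hsel _)
  intro p p'
  have : IsLocallyNoetherian Z.left := LocallyOfFiniteType.isLocallyNoetherian Z.hom
  have : CompactSpace Z.left := HasAffineProperty.iff_of_isAffine (P := @QuasiCompact) (f := Z.hom) |>.1 inferInstance
  have : IsNoetherian Z.left := {}
  have hfin : (irreducibleComponents Z.left).Finite := TopologicalSpace.NoetherianSpace.finite_irreducibleComponents
  have hclosed : ∀ S : Set α, IsClosed (G ⁻¹' S) := by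
    intro S
    have he : G ⁻¹' S = ⋃₀ {C ∈ irreducibleComponents Z.left | C ⊆ G ⁻¹' S} := by
      ext z
      refine ⟨fun hz => ?_, fun ⟨C, hC, hzC⟩ => hC.2 hzC⟩
      have hCirr : irreducibleComponent z ∈ irreducibleComponents Z.left := irreducibleComponent_mem_irreducibleComponents z
      refine ⟨irreducibleComponent z, ⟨hCirr, fun y hy => ?_⟩, mem_irreducibleComponent⟩
      have hgen := hCirr.1.isGenericPoint_genericPoint isClosed_irreducibleComponent
      have h1 := hG (hgen.specializes mem_irreducibleComponent)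
      have h2 := hG (hgen.specializes hy)
      show G y ∈ S
      rw [← h2, h1]; exact hz
    rw [he, Set.sUnion_eq_biUnion]
    exact (hfin.subset fun C hC => hC.1).isClosed_biUnion fun C hC => isClosed_of_mem_irreducibleComponents C hC.1
  have hcl : IsClopen (G ⁻¹' {G (pt p)}) := ⟨hclosed _, by
    rw [← isClosed_compl_iff, ← Set.preimage_compl]; exact hclosed _⟩
  have := hcl.eq_univ ⟨pt p, rfl⟩
  rw [hFG p, hFG p']
  exact (Set.eq_univ_iff_forall.1 this (pt p')).symm

/-- Rational points in a common irreducible closed subset of an affine open lie on an integral scheme. -/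
theorem exists_integral_through {Z : Over (Spec (CommRingCat.of k))} [LocallyOfFiniteType Z.hom]
    {W : Z.left.Opens} (hW : IsAffineOpen W) {z : Z.left} (hz : z ∈ W) (p p' : kPt k ⟶ Z)
    (hp : pt p ∈ W) (hp' : pt p' ∈ W) (hzp : z ⤳ pt p) (hzp' : z ⤳ pt p') :
    ∃ (Z' : Over (Spec (CommRingCat.of k))) (_ : IsIntegral Z'.left) (_ : LocallyOfFiniteType Z'.hom)
      (j : Z' ⟶ Z) (r r' : kPt k ⟶ Z'), r ≫ j = p ∧ r' ≫ j = p' := by
  letI := secAlg Z W
  let P := (hW.primeIdealOf ⟨z, hz⟩).asIdeal
  have hfac : ∀ q : kPt k ⟶ Z, pt q ∈ W → z ⤳ pt q →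
      ∃ φ : Γ(Z.left, W) ⧸ P →ₐ[k] k, specPt φ ≫ specPt (Ideal.Quotient.mkₐ k P) ≫ chart Z W hW = q := by
    intro q hq hzq
    have hrange : Set.range q.left ⊆ Set.range hW.fromSpec := by
      rintro _ ⟨c, rfl⟩
      rw [hW.range_fromSpec, Subsingleton.elim (α := PrimeSpectrum k) c (IsLocalRing.closedPoint k)]
      exact hq
    let r' : kPt k ⟶ specO k Γ(Z.left, W) := Over.homMk (IsOpenImmersion.lift hW.fromSpec q.left hrange) (by
      show IsOpenImmersion.lift hW.fromSpec q.left hrange ≫ (specO k Γ(Z.left, W)).hom = _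
      rw [← Over.w (chart Z W hW), chart_left, IsOpenImmersion.lift_fac_assoc, Over.w])
    obtain ⟨φ, hφ⟩ := exists_specPt r'
    have hq' : specPt φ ≫ chart Z W hW = q := by
      rw [hφ]; ext : 1; exact IsOpenImmersion.lift_fac _ _ _
    have hker : ∀ a ∈ P, φ a = 0 := by
      intro a ha
      have h1 : hW.fromSpec (hW.primeIdealOf ⟨z, hz⟩) ⤳ hW.fromSpec (PrimeSpectrum.comap φ.toRingHom (IsLocalRing.closedPoint k)) := by
        rw [hW.fromSpec_primeIdealOf]
        have h2 : pt q = hW.fromSpec (PrimeSpectrum.comap φ.toRingHom (IsLocalRing.closedPoint k)) := by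
          conv_lhs => rw [← hq']
          rfl
        rwa [← h2]
      rw [hW.fromSpec.isOpenEmbedding.isInducing.specializes_iff] at h1
      have h3 := (PrimeSpectrum.le_iff_specializes _ _).2 h1 ha
      change φ a ∈ IsLocalRing.maximalIdeal k at h3
      rwa [IsLocalRing.maximalIdeal_eq_bot, Ideal.mem_bot] at h3
    refine ⟨Ideal.Quotient.liftₐ P φ hker, ?_⟩
    rw [← Category.assoc, specPt_comp, show (Ideal.Quotient.liftₐ P φ hker).comp (Ideal.Quotient.mkₐ k P) = φ from
      Ideal.Quotient.liftₐ_comp _ _ _, hq']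
  obtain ⟨φ, hφ⟩ := hfac p hp hzp
  obtain ⟨φ', hφ'⟩ := hfac p' hp' hzp'
  have : P.IsPrime := (hW.primeIdealOf ⟨z, hz⟩).isPrime
  have hft : LocallyOfFiniteType (specO k (Γ(Z.left, W) ⧸ P)).hom := by
    rw [← Over.w (specPt (Ideal.Quotient.mkₐ k P) ≫ chart Z W hW), Over.comp_left, Category.assoc]
    have : IsClosedImmersion (specPt (Ideal.Quotient.mkₐ k P)).left :=
      IsClosedImmersion.spec_of_surjective _ Ideal.Quotient.mk_surjective
    rw [chart_left]; infer_instance
  exact ⟨specO k (Γ(Z.left, W) ⧸ P), inferInstanceAs (IsIntegral (Spec (CommRingCat.of (Γ(Z.left, W) ⧸ P)))), hft,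
    specPt (Ideal.Quotient.mkₐ k P) ≫ chart Z W hW, specPt φ, specPt φ', hφ, hφ'⟩

/-- A unit on a product of connected schemes which equals `c` on both axes equals `c` at every rational point. -/
theorem gval_eq_const {X Y : Over (Spec (CommRingCat.of k))} [LocallyOfFiniteType X.hom] [QuasiCompact X.hom]
    [ConnectedSpace X.left] [LocallyOfFiniteType Y.hom] [QuasiCompact Y.hom] [ConnectedSpace Y.left]
    (f : Γ((X ⊗ Y).left, ⊤)) (hf : IsUnit f) (x₀ : kPt k ⟶ X) (y₀ : kPt k ⟶ Y) (c : k)
    (hX : ∀ p, gval (lift p y₀) f = c) (hY : ∀ q, gval (lift x₀ q) f = c) (p : kPt k ⟶ X) (q : kPt k ⟶ Y) :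
    gval (lift p q) f = c := by
  have hnz : ∀ a b, gval (lift a b : kPt k ⟶ X ⊗ Y) f ≠ 0 := fun a b => gval_ne_zero _ hf
  refine (const_of_affine (fun q => gval (lift p q) f) (fun V hV w hw q q' hq hq' hwq hwq' => ?_) q y₀).trans (hX p)
  show gval (lift p q) f = gval (lift p q') f
  obtain ⟨Y', _, _, jY, s, s', rfl, rfl⟩ := exists_integral_through hV hw q q' hq hq' hwq hwq'
  have key := const_of_affine (fun p => gval (lift p (s ≫ jY)) f / gval (lift p (s' ≫ jY)) f)
    (fun W hW z hz a a' ha ha' hza hza' => by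
      obtain ⟨X', _, _, jX, r, r', rfl, rfl⟩ := exists_integral_through hW hz a a' ha ha' hza hza'
      have := gval_cross ((jX ⊗ₘ jY).left.appTop f) (isUnit_appTop _ hf) r r' s s'
      simp only [← gval_comp, lift_map] at this
      rw [div_eq_div_iff (hnz _ _) (hnz _ _)]
      exact this.trans (mul_comm _ _)) p x₀
  simp only [hY] at key
  rwa [div_self (hY y₀ ▸ hnz x₀ y₀), div_eq_one_iff_eq (hnz _ _)] at key

end Groth.Agent.Units38
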