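import Groth.Agent.Units38.Product
import Groth.Prelude.Def_Red

/-! Morphisms to `𝔾ₘ` are detected by a single unit, and by geometric points. -/

set_option autoImplicit false
universe u

open CategoryTheory MonoidalCategory CartesianMonoidalCategory AlgebraicGeometry CategoryTheory.Limits
open Groth.Agent.AlgGrp79

namespace Groth.Agent.Units38

variable (S : Scheme.{u})

/-- The standard coordinate on `𝔾ₘ`. -/
noncomputable def coord : Γ((Red.Gm S).left, ⊤) :=
  (pullback.fst (Red.diag (ULift.{u} ℤ) ℤ).hom (IsTerminal.from specULiftZIsTerminal S)).appTop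
    ((Scheme.ΓSpecIso (CommRingCat.of (MonoidAlgebra (ULift.{u} ℤ) (Multiplicative ℤ)))).inv
      (MonoidAlgebra.single (Multiplicative.ofAdd 1) 1))

theorem isUnit_coord : IsUnit (coord S) := by
  refine (IsUnit.map (Scheme.ΓSpecIso (CommRingCat.of (MonoidAlgebra (ULift.{u} ℤ) (Multiplicative ℤ)))).inv.hom
    (x := MonoidAlgebra.single (Multiplicative.ofAdd 1) 1) ?_).map _
  exact (Group.isUnit (Multiplicative.ofAdd (1 : ℤ))).map (MonoidAlgebra.of (ULift.{u} ℤ) (Multiplicative ℤ))

variable {S}

theorem hom_ext_coord {T : Over S} (a b : T ⟶ Red.Gm S) (h : a.left.appTop (coord S) = b.left.appTop (coord S)) :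
    a = b := by
  refine Over.OverMorphism.ext (pullback.hom_ext ?_ ((Over.w a).trans (Over.w b).symm))
  have : IsAffine (Red.diag (ULift.{u} ℤ) ℤ).left :=
    inferInstanceAs (IsAffine (Spec (CommRingCat.of (MonoidAlgebra (ULift.{u} ℤ) (Multiplicative ℤ)))))
  refine ext_of_isAffine ?_
  refine (cancel_epi (Scheme.ΓSpecIso (CommRingCat.of (MonoidAlgebra (ULift.{u} ℤ) (Multiplicative ℤ)))).inv).1 ?_
  refine CommRingCat.hom_ext (MonoidAlgebra.ringHom_ext' ?_ (MonoidHom.ext_mint ?_))
  · refine (RingHom.cancel_right (f := (ULift.ringEquiv (R := ℤ)).symm.toRingHom)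
      (ULift.ringEquiv (R := ℤ)).symm.surjective).1 ?_
    exact RingHom.ext_int _ _
  · simp only [coord] at h
    exact h

/-- Equality of morphisms into a separated scheme is detected on the closed points of a reduced source. -/
theorem hom_ext_of_closedPoints {X Y S : Scheme.{u}} [IsReduced X] [JacobsonSpace X] {a b : X ⟶ Y} (g : Y ⟶ S)
    [IsSeparated g] (hg : a ≫ g = b ≫ g)
    (h : ∀ x : X, IsClosed {x} → ∃ (T : Scheme.{u}) (t : T ⟶ X) (s : T), t s = x ∧ t ≫ a = t ≫ b) : a = b := by
  let X' : Over S := Over.mk (a ≫ g)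
  let a' : X' ⟶ Over.mk g := Over.homMk a
  let b' : X' ⟶ Over.mk g := Over.homMk b hg.symm
  have : IsSeparated (Over.mk g).hom := ‹_›
  have : JacobsonSpace X'.left := ‹JacobsonSpace X›
  have : IsReduced X'.left := ‹IsReduced X›
  have := isClosedImmersion_equalizer_ι_left a' b'
  have hsurj : Surjective (equalizer.ι a' b').left := by
    constructor
    intro x
    by_contra hx
    obtain ⟨c, hc, hcc⟩ := nonempty_inter_closedPoints (Z := (Set.range (equalizer.ι a' b').left)ᶜ) ⟨x, hx⟩
      ((equalizer.ι a' b').left.isClosedEmbedding.isClosed_range.isOpen_compl.isLocallyClosed)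
    obtain ⟨T, t, s, hts, heq⟩ := h c hcc
    refine hc ⟨(equalizer.lift (f := a') (g := b') (W := Over.mk (t ≫ a ≫ g)) (Over.homMk t) (Over.OverMorphism.ext heq)).left s, ?_⟩
    rw [← Scheme.Hom.comp_apply, ← Over.comp_left, equalizer.lift_ι]
    exact hts
  have : IsIso (equalizer.ι a' b').left := isIso_of_isClosedImmersion_of_surjective _
  rw [← cancel_epi (equalizer.ι a' b').left]
  exact congrArg CommaMorphism.left (equalizer.condition a' b')

end Groth.Agent.Units38
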